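import Cfsg.Agent.H707.Odd.Sph
import Cfsg.Agent.Blocks.Basic
import Cfsg.Prelude.Def_DegreeGraph

/-!
# Irreducible characters of known degree from a simple eigenvalue

Variants of `H707.Odd.ratOdd_of_spherical`, `H707.Odd.ratOdd_of_collapse` (helper707) for every degree.
-/

set_option autoImplicit false

namespace Cfsg.Agent.H859.Two

open Cfsg Cfsg.Agent.H707.OddLift Cfsg.Agent.H707.Eigen Cfsg.Agent.H707.Collapse Cfsg.Agent.H707.Odd Representation

universe u

section Sph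

variable {G : Type u} [Group G] [Finite G] {X : Type*} [Fintype X] [MulAction G X]

/-- Spherical vectors give characters of known degree. -/
theorem deg_of_spherical (htr : ∀ x y : X, ∃ g : G, g • x = y) (V : Submodule ℚ (X → ℚ))
    (hV : ∀ (g : G), ∀ f ∈ V, (fun x => f (g • x)) ∈ V) (Q : Subgroup G) (x₀ : X)
    (h₀ : ∀ f ∈ V, ∀ q ∈ Q, f (q • x₀) = f x₀) (e₀ : X → ℚ) (he : e₀ ∈ V) (heQ : ∀ q ∈ Q, ∀ x, e₀ (q • x) = e₀ x)
    (he1 : e₀ x₀ = 1) (hone : ∀ f ∈ V, (∀ q ∈ Q, ∀ x, f (q • x) = f x) → ∃ c : ℚ, f = c • e₀)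
    (d : ℕ) (hsum : (d : ℚ) * ∑ x, e₀ x ^ 2 = Fintype.card X) : d ∈ charDegrees G := by
  let ρ : Representation ℚ G V :=
    { toFun := fun g =>
        { toFun := fun φ => ⟨fun x => (φ : X → ℚ) (g⁻¹ • x), hV _ φ φ.2⟩
          map_add' := fun _ _ => rfl
          map_smul' := fun _ _ => rfl }
      map_one' := by
        refine LinearMap.ext fun φ => Subtype.ext (funext fun x => ?_)
        show (φ : X → ℚ) ((1 : G)⁻¹ • x) = (φ : X → ℚ) x
        rw [inv_one, one_smul]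
      map_mul' := fun g h => by
        refine LinearMap.ext fun φ => Subtype.ext (funext fun x => ?_)
        show (φ : X → ℚ) ((g * h)⁻¹ • x) = (φ : X → ℚ) (h⁻¹ • g⁻¹ • x)
        rw [mul_inv_rev, mul_smul] }
  have hρ : ∀ g (φ : V) x, ((ρ g φ : V) : X → ℚ) x = (φ : X → ℚ) (g⁻¹ • x) := fun _ _ _ => rfl
  let e : V := ⟨e₀, he⟩
  have hne : e ≠ 0 := by
    intro h
    have h1 : e₀ x₀ = 0 := congrArg (fun φ : V => (φ : X → ℚ) x₀) h
    rw [he1] at h1
    exact one_ne_zero h1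
  obtain ⟨χ, hχ, hrat, hdeg⟩ := exists_of_eigen ρ Q (fun _ => 1) e hne
    (by
      intro q hq
      rw [one_smul]
      refine Subtype.ext (funext fun x => ?_)
      rw [hρ]
      exact heQ _ (Q.inv_mem hq) x)
    (by
      intro φ hφ
      obtain ⟨c, hc⟩ := hone φ φ.2 (by
        intro q hq x
        have h1 := hφ q⁻¹ (Q.inv_mem hq)
        rw [one_smul] at h1
        have h2 := congrArg (fun ψ : V => (ψ : X → ℚ) x) h1
        simp only [hρ, inv_inv] at h2
        exact h2)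
      exact ⟨c, Subtype.ext hc⟩)
  -- the dimension
  obtain ⟨N, hN⟩ : ∃ N : Submodule ℚ V, N = Submodule.span ℚ (Set.range fun g => ρ g e) := ⟨_, rfl⟩
  rw [← hN] at hdeg
  have heN : e ∈ N := by
    rw [hN]
    exact Submodule.subset_span ⟨1, by show ρ 1 e = e; rw [map_one]; rfl⟩
  have hNinv : ∀ g, ∀ v ∈ N, ρ g v ∈ N := by
    intro g v hv
    rw [hN] at hv ⊢
    induction hv using Submodule.span_induction with
    | mem x hx =>
      obtain ⟨h, rfl⟩ := hx
      refine Submodule.subset_span ⟨g * h, ?_⟩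
      simp only [map_mul, Module.End.mul_apply]
    | zero => rw [map_zero]; exact Submodule.zero_mem _
    | add x y _ _ hx hy => rw [map_add]; exact Submodule.add_mem _ hx hy
    | smul c x _ hx => rw [map_smul]; exact Submodule.smul_mem _ c hx
  have hfin := finrank_mul_sum_sq htr (N.map V.subtype)
    (by
      rintro g f ⟨φ, hφ, rfl⟩
      refine ⟨ρ g⁻¹ φ, hNinv _ φ hφ, ?_⟩
      funext x
      show (φ : X → ℚ) ((g⁻¹)⁻¹ • x) = (φ : X → ℚ) (g • x)
      rw [inv_inv])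
    Q x₀
    (by
      rintro f ⟨φ, hφ, rfl⟩ q hq
      exact h₀ φ φ.2 q hq)
    e₀ ⟨e, heN, rfl⟩ heQ he1
    (by
      rintro f ⟨φ, hφ, rfl⟩ h
      exact hone φ φ.2 h)
  rw [LinearEquiv.finrank_eq (Submodule.equivMapOfInjective V.subtype V.injective_subtype N).symm, ← hsum] at hfin
  have hs0 : ∑ x, e₀ x ^ 2 ≠ 0 := by
    have h1 : e₀ x₀ ^ 2 ≤ ∑ x, e₀ x ^ 2 := Finset.single_le_sum (fun _ _ => sq_nonneg _) (Finset.mem_univ x₀)
    rw [he1, one_pow] at h1
    positivity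
  have hfd : (Module.finrank ℚ N : ℚ) = d := mul_right_cancel₀ hs0 hfin
  have hfd' : Module.finrank ℚ N = d := by exact_mod_cast hfd
  rw [hfd'] at hdeg
  refine ⟨⟨χ, hχ⟩, ?_⟩
  show charDegree χ = d
  have h1 := Cfsg.Agent.Blocks.Basic.irr_one_eq_charDegree hχ
  rw [hdeg] at h1
  exact_mod_cast h1.symm
end Sph

section Main

variable {G : Type u} [Group G] [Finite G] (K C : Subgroup G) {I J : Type} [Fintype I] [Fintype J]
  [DecidableEq I] [DecidableEq J]

theorem deg_of_collapse (κ : G → I) (γ : G → J)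
    (κl : ∀ h ∈ K, ∀ x, κ (h * x) = κ x) (κr : ∀ x, ∀ k ∈ K, κ (x * k) = κ x)
    (κs : ∀ x y, κ x = κ y → ∃ h ∈ K, ∃ k ∈ K, y = h * x * k)
    (γl : ∀ h ∈ K, ∀ x, γ (h * x) = γ x) (γr : ∀ x, ∀ c ∈ C, γ (x * c) = γ x)
    (γs : ∀ x y, γ x = γ y → ∃ h ∈ K, ∃ c ∈ C, y = h * x * c)
    (p : I → J → ℕ) (N : ℕ) (hN : N ≠ 0) (hp : ∀ i j, Nat.card {x : G // κ x = i ∧ γ x = j} = N * p i j)
    (hi : ∀ i, ∃ j, p i j ≠ 0) (hj : ∀ j, ∃ i, p i j ≠ 0)
    (a : I → ℚ) (s : J → ℚ) (t : ℚ)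
    (hs : ∀ j, (∑ i, (p i j : ℚ)) * s j = ∑ i, (p i j : ℚ) * a i)
    (ht : ∀ i, (∑ j, (p i j : ℚ)) * (t * a i) = ∑ j, (p i j : ℚ) * s j)
    (huniq : ∀ (a' : I → ℚ) (s' : J → ℚ), (∀ j, (∑ i, (p i j : ℚ)) * s' j = ∑ i, (p i j : ℚ) * a' i) →
      (∀ i, (∑ j, (p i j : ℚ)) * (t * a' i) = ∑ j, (p i j : ℚ) * s' j) → ∀ i, a' i = a' (κ 1) * a i)
    (ha1 : a (κ 1) = 1) (d : ℕ)
    (hsumd : (d : ℚ) * ∑ i, ∑ j, (p i j : ℚ) * a i ^ 2 = ∑ i, ∑ j, (p i j : ℚ)) : d ∈ charDegrees G := by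
  classical
  have := Fintype.ofFinite G
  have := Fintype.ofFinite K
  have := Fintype.ofFinite C
  have hN' : (N : ℚ) ≠ 0 := Nat.cast_ne_zero.2 hN
  have hK0 : (Fintype.card K : ℚ) ≠ 0 := Nat.cast_ne_zero.2 Fintype.card_ne_zero
  have hC0 : (Fintype.card C : ℚ) ≠ 0 := Nat.cast_ne_zero.2 Fintype.card_ne_zero
  have hp' : ∀ i j, ((Finset.univ.filter fun x : G => κ x = i ∧ γ x = j).card : ℚ) = N * p i j := by
    intro i j
    have := hp i j
    rw [Nat.card_eq_fintype_card, Fintype.card_subtype] at this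
    rw [this]
    push_cast
    ring
  have κsurj : ∀ i, ∃ x, κ x = i := by
    intro i
    obtain ⟨j, hj⟩ := hi i
    have h1 : (Finset.univ.filter fun x : G => κ x = i ∧ γ x = j).card ≠ 0 := by
      intro h
      have := hp' i j
      rw [h, Nat.cast_zero] at this
      exact mul_ne_zero hN' (Nat.cast_ne_zero.2 hj) this.symm
    obtain ⟨x, hx⟩ := Finset.card_ne_zero.1 h1
    exact ⟨x, (Finset.mem_filter.1 hx).2.1⟩
  have γsurj : ∀ j, ∃ x, γ x = j := by
    intro j
    obtain ⟨i, hi⟩ := hj j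
    have h1 : (Finset.univ.filter fun x : G => κ x = i ∧ γ x = j).card ≠ 0 := by
      intro h
      have := hp' i j
      rw [h, Nat.cast_zero] at this
      exact mul_ne_zero hN' (Nat.cast_ne_zero.2 hi) this.symm
    obtain ⟨x, hx⟩ := Finset.card_ne_zero.1 h1
    exact ⟨x, (Finset.mem_filter.1 hx).2.2⟩
  -- sums over the fibres
  have sumγ : ∀ (f : I → ℚ) (j : J), ∑ y ∈ Finset.univ.filter (fun y => γ y = j), f (κ y) =
      N * ∑ i, (p i j : ℚ) * f i := by
    intro f j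
    rw [← Finset.sum_fiberwise_of_maps_to (s := Finset.univ.filter (fun y => γ y = j)) (t := Finset.univ)
      (g := κ) (fun _ _ => Finset.mem_univ _), Finset.mul_sum]
    refine Finset.sum_congr rfl fun i _ => ?_
    rw [Finset.filter_filter]
    have h1 : ∀ y ∈ Finset.univ.filter (fun y => γ y = j ∧ κ y = i), f (κ y) = f i := by
      intro y hy
      rw [(Finset.mem_filter.1 hy).2.2]
    rw [Finset.sum_congr rfl h1, Finset.sum_const, nsmul_eq_mul]
    have h2 : Finset.univ.filter (fun y => γ y = j ∧ κ y = i) = Finset.univ.filter (fun y => κ y = i ∧ γ y = j) := by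
      ext y; simp [and_comm]
    rw [h2, hp']
    ring
  have sumκ : ∀ (f : J → ℚ) (i : I), ∑ y ∈ Finset.univ.filter (fun y => κ y = i), f (γ y) =
      N * ∑ j, (p i j : ℚ) * f j := by
    intro f i
    rw [← Finset.sum_fiberwise_of_maps_to (s := Finset.univ.filter (fun y => κ y = i)) (t := Finset.univ)
      (g := γ) (fun _ _ => Finset.mem_univ _), Finset.mul_sum]
    refine Finset.sum_congr rfl fun j _ => ?_
    rw [Finset.filter_filter]
    have h1 : ∀ y ∈ Finset.univ.filter (fun y => κ y = i ∧ γ y = j), f (γ y) = f j := by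
      intro y hy
      rw [(Finset.mem_filter.1 hy).2.2]
    rw [Finset.sum_congr rfl h1, Finset.sum_const, nsmul_eq_mul, hp']
    ring
  have cardγ : ∀ j, ((Finset.univ.filter fun y => γ y = j).card : ℚ) = N * ∑ i, (p i j : ℚ) := by
    intro j
    have h1 := sumγ (fun _ => 1) j
    simp only [mul_one, Finset.sum_const, nsmul_eq_mul] at h1
    exact h1
  have cardκ : ∀ i, ((Finset.univ.filter fun y => κ y = i).card : ℚ) = N * ∑ j, (p i j : ℚ) := by
    intro i
    have h1 := sumκ (fun _ => 1) i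
    simp only [mul_one, Finset.sum_const, nsmul_eq_mul] at h1
    exact h1
  -- the two averaging steps
  have stepC : ∀ (f : I → ℚ) (x : G), (∑ i, (p i (γ x) : ℚ)) * ∑ c : C, f (κ (x * c)) =
      Fintype.card C * ∑ i, (p i (γ x) : ℚ) * f i := by
    intro f x
    have h1 := avg K C γ γr γs (fun y => f (κ y)) (fun l hl y => by rw [κl l hl]) x
    rw [cardγ, sumγ] at h1
    have h2 : (N : ℚ) * ((∑ i, (p i (γ x) : ℚ)) * ∑ c : C, f (κ (x * c))) =
        N * (Fintype.card C * ∑ i, (p i (γ x) : ℚ) * f i) := by linear_combination h1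
    exact mul_left_cancel₀ hN' h2
  have stepK : ∀ (f : J → ℚ) (x : G), (∑ j, (p (κ x) j : ℚ)) * ∑ k : K, f (γ (x * k)) =
      Fintype.card K * ∑ j, (p (κ x) j : ℚ) * f j := by
    intro f x
    have h1 := avg K K κ κr κs (fun y => f (γ y)) (fun l hl y => by rw [γl l hl]) x
    rw [cardκ, sumκ] at h1
    have h2 : (N : ℚ) * ((∑ j, (p (κ x) j : ℚ)) * ∑ k : K, f (γ (x * k))) =
        N * (Fintype.card K * ∑ j, (p (κ x) j : ℚ) * f j) := by linear_combination h1
    exact mul_left_cancel₀ hN' h2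
  have nzγ : ∀ j, (∑ i, (p i j : ℚ)) ≠ 0 := by
    intro j h
    obtain ⟨x, hx⟩ := γsurj j
    have h1 := cardγ j
    rw [h, mul_zero, Nat.cast_eq_zero, Finset.card_eq_zero] at h1
    have h2 : x ∈ Finset.univ.filter fun y => γ y = j := Finset.mem_filter.2 ⟨Finset.mem_univ _, hx⟩
    rw [h1] at h2
    exact Finset.notMem_empty _ h2
  have nzκ : ∀ i, (∑ j, (p i j : ℚ)) ≠ 0 := by
    intro i h
    obtain ⟨x, hx⟩ := κsurj i
    have h1 := cardκ i
    rw [h, mul_zero, Nat.cast_eq_zero, Finset.card_eq_zero] at h1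
    have h2 : x ∈ Finset.univ.filter fun y => κ y = i := Finset.mem_filter.2 ⟨Finset.mem_univ _, hx⟩
    rw [h1] at h2
    exact Finset.notMem_empty _ h2
  -- the module
  let V : Submodule ℚ (G → ℚ) :=
    { carrier := {φ | (∀ x, ∀ k ∈ K, φ (x * k) = φ x) ∧
        ∀ x, ∑ k : K, ∑ c : C, φ (x * k * c) = t * Fintype.card K * Fintype.card C * φ x}
      add_mem' := by
        rintro φ ψ ⟨h1, h2⟩ ⟨h3, h4⟩
        refine ⟨fun x k hk => by rw [Pi.add_apply, Pi.add_apply, h1 x k hk, h3 x k hk], fun x => ?_⟩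
        simp only [Pi.add_apply, Finset.sum_add_distrib, h2, h4]
        ring
      zero_mem' := ⟨fun _ _ _ => rfl, fun x => by simp⟩
      smul_mem' := by
        rintro c φ ⟨h1, h2⟩
        refine ⟨fun x k hk => by rw [Pi.smul_apply, Pi.smul_apply, h1 x k hk], fun x => ?_⟩
        simp only [Pi.smul_apply, smul_eq_mul, ← Finset.mul_sum, h2]
        ring }
  have hVG : ∀ (g : G) (φ : G → ℚ), φ ∈ V → (fun x => φ (g⁻¹ * x)) ∈ V := by
    rintro g φ ⟨h1, h2⟩
    refine ⟨fun x k hk => ?_, fun x => ?_⟩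
    · show φ (g⁻¹ * (x * k)) = φ (g⁻¹ * x)
      rw [← mul_assoc, h1 _ k hk]
    · have h3 := h2 (g⁻¹ * x)
      simp only [mul_assoc] at h3 ⊢
      exact h3
  have hcard2 : ∀ x, (∑ k : K, ∑ c : C, a (κ (x * k * c))) = t * Fintype.card K * Fintype.card C * a (κ x) := by
    intro x
    have h1 : ∀ y, ∑ c : C, a (κ (y * c)) = Fintype.card C * s (γ y) := by
      intro y
      have h2 := stepC a y
      rw [← hs] at h2
      exact mul_left_cancel₀ (nzγ (γ y)) (by linear_combination h2)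
    have h5 : ∑ k : K, ∑ c : C, a (κ (x * k * c)) = ∑ k : K, (Fintype.card C : ℚ) * s (γ (x * k)) :=
      Finset.sum_congr rfl fun k _ => h1 (x * k)
    rw [h5, ← Finset.mul_sum]
    have h3 := stepK s x
    rw [← ht] at h3
    have h4 : ∑ k : K, s (γ (x * k)) = Fintype.card K * (t * a (κ x)) :=
      mul_left_cancel₀ (nzκ (κ x)) (by linear_combination h3)
    rw [h4]
    ring
  have he : (fun x => a (κ x)) ∈ V := ⟨fun x k hk => by show a (κ (x * k)) = a (κ x); rw [κr x k hk], hcard2⟩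
  refine deg_of_spherical (fun x y => ⟨y * x⁻¹, by rw [smul_eq_mul, inv_mul_cancel_right]⟩) V (fun g f hf => ?_) K
    (1 : G) ?_ (fun x => a (κ x)) he ?_ ha1 ?_ d ?_
  · have h1 := hVG g⁻¹ f hf
    rw [inv_inv] at h1
    exact h1
  · intro f hf q hq
    have h1 := hf.1 1 q hq
    rw [one_mul] at h1
    rw [smul_eq_mul, mul_one]
    exact h1
  · intro q hq x
    show a (κ (q * x)) = a (κ x)
    rw [κl _ hq]
  · intro φ hφV hφ
    have hl : ∀ h ∈ K, ∀ x, φ (h * x) = φ x := hφ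
    obtain ⟨hr, hT⟩ := hφV
    choose r hr' using κsurj
    choose r' hr'' using γsurj
    let a' : I → ℚ := fun i => φ (r i)
    have haφ : ∀ x, φ x = a' (κ x) := by
      intro x
      obtain ⟨h, hh, k, hk, e⟩ := κs x (r (κ x)) (hr' _).symm
      show _ = φ (r (κ x))
      rw [e, hr _ k hk, hl h hh]
    let s' : J → ℚ := fun j => (Fintype.card C : ℚ)⁻¹ * ∑ c : C, a' (κ (r' j * c))
    have hs' : ∀ j, (∑ i, (p i j : ℚ)) * s' j = ∑ i, (p i j : ℚ) * a' i := by
      intro j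
      have h1 := stepC a' (r' j)
      rw [hr''] at h1
      show (∑ i, (p i j : ℚ)) * ((Fintype.card C : ℚ)⁻¹ * ∑ c : C, a' (κ (r' j * c))) = _
      field_simp
      linear_combination h1
    have hsC : ∀ y, ∑ c : C, a' (κ (y * c)) = Fintype.card C * s' (γ y) := by
      intro y
      have h2 := stepC a' y
      rw [← hs'] at h2
      exact mul_left_cancel₀ (nzγ (γ y)) (by linear_combination h2)
    have ht' : ∀ i, (∑ j, (p i j : ℚ)) * (t * a' i) = ∑ j, (p i j : ℚ) * s' j := by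
      intro i
      have h1 := hT (r i)
      have h2 : ∑ k : K, ∑ c : C, φ (r i * k * c) = ∑ k : K, ∑ c : C, a' (κ (r i * k * c)) :=
        Finset.sum_congr rfl fun k _ => Finset.sum_congr rfl fun c _ => haφ _
      have h5 : ∑ k : K, ∑ c : C, a' (κ (r i * k * c)) = ∑ k : K, (Fintype.card C : ℚ) * s' (γ (r i * k)) :=
        Finset.sum_congr rfl fun k _ => hsC (r i * k)
      rw [h2, h5, ← Finset.mul_sum, haφ, hr'] at h1
      have h3 := stepK s' (r i)
      rw [hr'] at h3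
      have h4 : (Fintype.card K * Fintype.card C : ℚ) * ((∑ j, (p i j : ℚ)) * (t * a' i)) =
          (Fintype.card K * Fintype.card C : ℚ) * ∑ j, (p i j : ℚ) * s' j := by
        linear_combination (-(∑ j, (p i j : ℚ))) * h1 + (Fintype.card C : ℚ) * h3
      exact mul_left_cancel₀ (mul_ne_zero hK0 hC0) h4
    refine ⟨a' (κ 1), funext fun x => ?_⟩
    show φ x = a' (κ 1) * a (κ x)
    rw [haφ, huniq a' s' hs' ht']
  · have h1 : ∀ f : I → ℚ, ∑ y : G, f (κ y) = N * ∑ i, ∑ j, (p i j : ℚ) * f i := by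
      intro f
      rw [← Finset.sum_fiberwise_of_maps_to (s := Finset.univ) (t := Finset.univ) (g := κ)
        (fun _ _ => Finset.mem_univ _), Finset.mul_sum]
      refine Finset.sum_congr rfl fun i _ => ?_
      have h2 : ∀ y ∈ Finset.univ.filter (fun y => κ y = i), f (κ y) = f i := by
        intro y hy
        rw [(Finset.mem_filter.1 hy).2]
      rw [Finset.sum_congr rfl h2, Finset.sum_const, nsmul_eq_mul, cardκ, ← Finset.sum_mul, mul_assoc]
    have h3 := h1 fun _ => 1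
    simp only [mul_one, Finset.sum_const, nsmul_eq_mul, Finset.card_univ] at h3
    rw [h3, h1 fun i => a i ^ 2, ← hsumd]
    ring

end Main

end Cfsg.Agent.H859.Two
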