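import Cfsg.Agent.H859.Two.Deg
import Cfsg.Agent.H859.Two.Sph
import Cfsg.Agent.H707.Odd.ThData
import Cfsg.Agent.H707.RowTh
import Cfsg.Agent.H419.Row
import Cfsg.Agent.S2083
import Cfsg.Agent.H723.Spor.Th

/-!
# The Thompson group: irreducible characters of degrees 61256 and 30875 (S4897)
-/

set_option autoImplicit false
set_option maxRecDepth 100000

namespace Cfsg.Agent.H859.Two

section

open Cfsg Cfsg.Agent.H707.Odd Cfsg.Agent.H707.RowTh Cfsg.Agent.H707
open Cfsg.Agent.Th.Base (RelK RelC)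
open Cfsg.Agent.Th.Word Cfsg.Agent.Th.KOracle Cfsg.Agent.Th.COracleDef
open Cfsg.Agent.Th.FactData Cfsg.Agent.Th.FlagData Cfsg.Agent.Th.FlagCover
open Cfsg.Agent.Th.IndexBound Cfsg.Agent.Th.IndexUpper Cfsg.Agent.Th.OrbitSum
open Cfsg.Agent.Th.PathCover (unl)

universe u

variable {G : Type u} [Group G] {γ g : ℕ → G} (h : Cx γ g) (hind : (sub γ isK).index = 143127000)

include h hind

/-- an irreducible character of known degree from a simple eigenvalue of the collapsed matrix -/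
theorem deg_th [Finite G] (a : Fin 11 → ℚ) (s : Fin 13 → ℚ) (t : ℚ)
    (hs : ∀ j, (∑ i, (RowThData.P i j : ℚ)) * s j = ∑ i, (RowThData.P i j : ℚ) * a i)
    (ht : ∀ i, (∑ j, (RowThData.P i j : ℚ)) * (t * a i) = ∑ j, (RowThData.P i j : ℚ) * s j)
    (huniq : ∀ (a' : Fin 11 → ℚ) (s' : Fin 13 → ℚ),
      (∀ j, (∑ i, (RowThData.P i j : ℚ)) * s' j = ∑ i, (RowThData.P i j : ℚ) * a' i) →
      (∀ i, (∑ j, (RowThData.P i j : ℚ)) * (t * a' i) = ∑ j, (RowThData.P i j : ℚ) * s' j) →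
      ∀ i, a' i = a' 0 * a i)
    (ha1 : a 0 = 1) (d : ℕ)
    (hsum : (d : ℚ) * ∑ i, ∑ j, (RowThData.P i j : ℚ) * a i ^ 2 = ∑ i, ∑ j, (RowThData.P i j : ℚ)) :
    d ∈ charDegrees G := by
  classical
  have hcovK : ∀ x : G, ∃ i : Fin 11, pt (sub γ isK) x ∈ orb (sub γ isK) γ (g i) := by
    intro x
    obtain ⟨ij, hij⟩ := coverP h hind (pt (sub γ isK) x)
    exact ⟨ij.1, piece_orb ij hij⟩
  have hcovC : ∀ x : G, ∃ j : Fin 13, pt (sub γ isK) x ∈ orbC γ g (j + 11) := by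
    intro x
    obtain ⟨-, h2, -, -⟩ := Cfsg.Agent.Th.CentTh.hyps h hind
    exact h2 _
  choose κ hκ using hcovK
  choose c hc using hcovC
  have κiff : ∀ x (i : Fin 11), κ x = i ↔ ∃ k ∈ sub γ isK, ∃ k' ∈ sub γ isK, x = k * g i * k' := by
    intro x i
    constructor
    · rintro rfl
      obtain ⟨k, hk, hx⟩ := hκ x
      rw [pt_eq_iff] at hx
      refine ⟨x * (g (κ x) * k)⁻¹, hx, k, hk, ?_⟩
      group
    · rintro ⟨k, hk, k', hk', rfl⟩
      refine (exK h hind).2 _ _ _ (hκ _) ⟨k', hk', ?_⟩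
      rw [pt_eq_iff]
      show k * g i * k' * (g i * k')⁻¹ ∈ _
      have e : k * g i * k' * (g i * k')⁻¹ = k := by group
      rw [e]
      exact hk
  have ciff : ∀ x (j : Fin 13), c x = j ↔ ∃ k ∈ sub γ isK, ∃ k' ∈ sub γ isC, x = k * g (j + 11) * k' := by
    intro x j
    constructor
    · rintro rfl
      obtain ⟨k, hk, hx⟩ := hc x
      rw [pt_eq_iff] at hx
      refine ⟨x * (g (c x + 11) * k)⁻¹, hx, k, hk, ?_⟩
      group
    · rintro ⟨k, hk, k', hk', rfl⟩
      refine (exC h hind).2 _ _ _ (hc _) ⟨k', hk', ?_⟩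
      rw [pt_eq_iff]
      show k * g (j + 11) * k' * (g (j + 11) * k')⁻¹ ∈ _
      have e : k * g (j + 11) * k' * (g (j + 11) * k')⁻¹ = k := by group
      rw [e]
      exact hk
  have κ1 : κ 1 = 0 := (κiff 1 0).2 ⟨1, Subgroup.one_mem _, 1, Subgroup.one_mem _, by
    show (1 : G) = 1 * g 0 * 1
    rw [h.N.g0, one_mul, one_mul]⟩
  refine deg_of_collapse (sub γ isK) (sub γ isC) κ c ?_ ?_ ?_ ?_ ?_ ?_ RowThData.P
    (Nat.card (sub γ isK)) Nat.card_pos.ne' ?_ RowThData.hi RowThData.hj a s t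
    hs ht ?_ ?_ d hsum
  · intro k hk x
    obtain ⟨a, ha, b, hb, e⟩ := (κiff x _).1 rfl
    refine (κiff _ _).2 ⟨k * a, Subgroup.mul_mem _ hk ha, b, hb, ?_⟩
    rw [mul_assoc k, mul_assoc k, ← e]
  · intro x k hk
    obtain ⟨a, ha, b, hb, e⟩ := (κiff x _).1 rfl
    refine (κiff _ _).2 ⟨a, ha, b * k, Subgroup.mul_mem _ hb hk, ?_⟩
    rw [← mul_assoc, ← e]
  · intro x y hxy
    obtain ⟨a, ha, b, hb, e⟩ := (κiff x _).1 rfl
    obtain ⟨a', ha', b', hb', e'⟩ := (κiff y _).1 hxy.symm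
    refine ⟨a' * a⁻¹, Subgroup.mul_mem _ ha' (Subgroup.inv_mem _ ha), b⁻¹ * b',
      Subgroup.mul_mem _ (Subgroup.inv_mem _ hb) hb', ?_⟩
    conv_lhs => rw [e']
    conv_rhs => rw [e]
    group
  · intro k hk x
    obtain ⟨a, ha, b, hb, e⟩ := (ciff x _).1 rfl
    refine (ciff _ _).2 ⟨k * a, Subgroup.mul_mem _ hk ha, b, hb, ?_⟩
    rw [mul_assoc k, mul_assoc k, ← e]
  · intro x k hk
    obtain ⟨a, ha, b, hb, e⟩ := (ciff x _).1 rfl
    refine (ciff _ _).2 ⟨a, ha, b * k, Subgroup.mul_mem _ hb hk, ?_⟩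
    rw [← mul_assoc, ← e]
  · intro x y hxy
    obtain ⟨a, ha, b, hb, e⟩ := (ciff x _).1 rfl
    obtain ⟨a', ha', b', hb', e'⟩ := (ciff y _).1 hxy.symm
    refine ⟨a' * a⁻¹, Subgroup.mul_mem _ ha' (Subgroup.inv_mem _ ha), b⁻¹ * b',
      Subgroup.mul_mem _ (Subgroup.inv_mem _ hb) hb', ?_⟩
    conv_lhs => rw [e']
    conv_rhs => rw [e]
    group
  · intro i j
    rw [← (exP h hind).1 (i, j), ← card_pt]
    refine Nat.card_congr (Equiv.subtypeEquivRight fun x => ?_)
    rw [← inter h hind]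
    constructor
    · rintro ⟨rfl, rfl⟩
      exact ⟨hκ x, hc x⟩
    · rintro ⟨h1, h2⟩
      exact ⟨(exK h hind).2 _ _ _ (hκ x) h1, (exC h hind).2 _ _ _ (hc x) h2⟩
  · intro a' s' h1 h2 i
    rw [κ1]
    exact huniq a' s' h1 h2 i
  · rw [κ1]
    exact ha1

end

open Cfsg Cfsg.Agent.H504.TwoZ Cfsg.Agent.H504.Zeros Cfsg.Agent.H713 Cfsg.Agent.H713.Count

theorem sum_Th : (61256 : ℚ) * ∑ i, ∑ j, (H707.RowThData.P i j : ℚ) * H707.RowThData.a i ^ 2 =
    ∑ i, ∑ j, (H707.RowThData.P i j : ℚ) := by decide +kernel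

theorem mem_Th : 61256 ∈ charDegrees Spor.Th ∧ 30875 ∈ charDegrees Spor.Th := by
  obtain ⟨g, hcx⟩ := Cfsg.Agent.Th.Main475.exists_cx
  obtain ⟨h0, -, -, h2⟩ := Cfsg.Agent.Th.Main1700.final
  exact ⟨deg_th hcx h2 H707.RowThData.a H707.RowThData.s (1 / 13) H707.RowThData.hs H707.RowThData.ht
    H707.RowThData.huniq (by decide +kernel) 61256 sum_Th,
    deg_th hcx h2 H707.Odd.ThData.a H707.Odd.ThData.s (3 / 65) H707.Odd.ThData.hs H707.Odd.ThData.ht
    H707.Odd.ThData.huniq (by decide +kernel) 30875 H707.Odd.ThData.hsum⟩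

theorem fact_of {p n d k : ℕ} (hp : p.Prime) (hn : n ≠ 0) (hd : d ≠ 0) (h1 : p ^ k ∣ n) (h2 : ¬ p ^ (k + 1) ∣ n)
    (h3 : p ^ k ∣ d) (h4 : ¬ p ^ (k + 1) ∣ d) : d.factorization p = n.factorization p := by
  have key : ∀ m : ℕ, m ≠ 0 → p ^ k ∣ m → ¬ p ^ (k + 1) ∣ m → m.factorization p = k := by
    intro m hm h5 h6
    rw [hp.pow_dvd_iff_le_factorization hm] at h5 h6
    omega
  rw [key n hn h1 h2, key d hd h3 h4]

theorem two_Th : Two Spor.Th := by
  have hcard : Nat.card Spor.Th = 90745943887872000 := H723.Spor.Th.card_th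
  have hfin : Finite Spor.Th := Nat.finite_of_card_ne_zero (by rw [hcard]; norm_num)
  refine two_of_ZS mem_Th.1 mem_Th.2 (by norm_num) ?_ ?_
  · refine ZS.of_primes (a := 13) (b := 19) (c := 31) (by norm_num) (by norm_num) (by norm_num) (by norm_num)
      (by norm_num) (by norm_num) (by rw [hcard]; norm_num) (by rw [hcard]; norm_num)
      (by rw [hcard]; norm_num) ?_ ?_ ?_ <;> rw [hcard]
    · exact fact_of (k := 1) (by norm_num) (by norm_num) (by norm_num) (by norm_num) (by norm_num) (by norm_num)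
        (by norm_num)
    · exact fact_of (k := 1) (by norm_num) (by norm_num) (by norm_num) (by norm_num) (by norm_num) (by norm_num)
        (by norm_num)
    · exact fact_of (k := 1) (by norm_num) (by norm_num) (by norm_num) (by norm_num) (by norm_num) (by norm_num)
        (by norm_num)
  · refine ZS.of_primes (a := 13) (b := 19) (c := 5) (by norm_num) (by norm_num) (by norm_num) (by norm_num)
      (by norm_num) (by norm_num) (by rw [hcard]; norm_num) (by rw [hcard]; norm_num)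
      (by rw [hcard]; norm_num) ?_ ?_ ?_ <;> rw [hcard]
    · exact fact_of (k := 1) (by norm_num) (by norm_num) (by norm_num) (by norm_num) (by norm_num) (by norm_num)
        (by norm_num)
    · exact fact_of (k := 1) (by norm_num) (by norm_num) (by norm_num) (by norm_num) (by norm_num) (by norm_num)
        (by norm_num)
    · exact fact_of (k := 3) (by norm_num) (by norm_num) (by norm_num) (by norm_num) (by norm_num) (by norm_num)
        (by norm_num)

/-- **the Thompson group** -/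
theorem th {S : Type} [Group S] (h : Cfsg.Spor.IsoTh S) : RowT S := by
  have hcard : Nat.card Spor.Th = 90745943887872000 := H723.Spor.Th.card_th
  have hfin : Finite Spor.Th := Nat.finite_of_card_ne_zero (by rw [hcard]; norm_num)
  obtain ⟨e⟩ := h
  exact rowT_of e (H419.Row.inner_of_out S2083.result) two_Th

end Cfsg.Agent.H859.Two
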