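import Cfsg.Agent.H859.Two.Deg
import Cfsg.Agent.H859.Five.B
import Cfsg.Agent.H713.Spor.Tool
import Cfsg.Agent.H94.Sp.Monst

/-!
# The Baby Monster: two irreducible characters with three zeros each (S4897)
-/

set_option autoImplicit false

namespace Cfsg.Agent.H859.Two

open Cfsg Cfsg.Agent.H504.TwoZ Cfsg.Agent.H504.Zeros Cfsg.Agent.H713 Cfsg.Agent.H713.Count


theorem card_B : Nat.card Spor.BabyMonster = 4154781481226426191177580544000000 :=
  BM.KHAll.isB.2

theorem two_B : Two Spor.BabyMonster := by
  have hcard := card_B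
  have hfin : Finite Spor.BabyMonster := Nat.finite_of_card_ne_zero (by rw [hcard]; norm_num)
  obtain ⟨d, hd, hpd⟩ := exists_deg_of_dz
    (H690.Spor.Trans.b (fun _ _ _ _ => S0000.result) ⟨MulEquiv.refl Spor.BabyMonster⟩ (Or.inl rfl))
  have hf : ∀ p : ℕ, p.Prime → p ∣ 4154781481226426191177580544000000 →
      ¬ p * p ∣ 4154781481226426191177580544000000 → (Nat.card Spor.BabyMonster).factorization p = 1 := by
    intro p hp h3 h4
    have := Fact.mk hp
    rw [hcard, factorization_eq_one h3 h4]
  have h23 := hf 23 (by norm_num) (by norm_num) (by norm_num)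
  have h31 := hf 31 (by norm_num) (by norm_num) (by norm_num)
  have h47 := hf 47 (by norm_num) (by norm_num) (by norm_num)
  refine two_of_ZS Five.mem_B hd ?_ ?_ ?_
  · rintro rfl
    rw [h23] at hpd
    have h1 := (Nat.Prime.dvd_iff_one_le_factorization (p := 23) (by norm_num) (by norm_num)).2 hpd.ge
    norm_num at h1
  · refine ZS.of_two (p := 47) (r := 31) (by norm_num) (by norm_num) (by norm_num) h47 (by rw [hcard]; norm_num)
      (by rw [hcard]; norm_num) ?_ ?_
    · have := Fact.mk (show Nat.Prime 47 by norm_num)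
      rw [h47, factorization_eq_one (by norm_num) (by norm_num)]
    · have := Fact.mk (show Nat.Prime 31 by norm_num)
      rw [h31, factorization_eq_one (by norm_num) (by norm_num)]
  · have := Fact.mk (show Nat.Prime 23 by norm_num)
    refine ZS.of_prime (p := 23) (by norm_num) h23 ?_ (by rw [hcard]; norm_num) hpd
    have hNr := H94.PG.Sp.cent_b (K := Spor.BabyMonster) ⟨MulEquiv.refl _⟩ (r := 23) (by norm_num) (by norm_num)
    rcases hNr with h | ⟨-, -, -, x, y, hx, hy, hxy⟩
    · norm_num at h
    · have ho : orderOf (x * y) = 46 := by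
        rw [hxy.orderOf_mul_eq_mul_orderOf_of_coprime (by rw [hx, hy]; norm_num), hx, hy]
      exact ⟨x * y, by rw [ho]; norm_num, by rw [ho]; norm_num⟩

/-- **the Baby Monster** -/
theorem b {S : Type} [Group S] (h : Cfsg.Spor.IsoB S) : RowT S := by
  have hcard := card_B
  have hfin : Finite Spor.BabyMonster := Nat.finite_of_card_ne_zero (by rw [hcard]; norm_num)
  obtain ⟨e⟩ := h
  exact rowT_of e (H419.Row.inner_of_out S2084.result) two_B

end Cfsg.Agent.H859.Two
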