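import Cfsg.Agent.H859.Two.Deg
import Cfsg.Agent.Ly.Setup
import Cfsg.Agent.Ly.IndexEq
import Cfsg.Agent.S1710
import Cfsg.Agent.S2076
import Cfsg.Agent.H419.Row

/-!
# The Lyons group: two irreducible characters with three zeros each (S4897)

An element `x` of order `31` in `H = G₂(5)` fixes only one of the `8835156` cosets of `H`, so `C(x) ≤ H` has order `31`.
-/

set_option autoImplicit false

namespace Cfsg.Agent.H859.Two

open Cfsg Cfsg.Agent.H504.TwoZ Cfsg.Agent.H504.Zeros Cfsg.Agent.H504.ZeroTI Cfsg.Agent.H713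
open Cfsg.Agent.H129.CycT

theorem exists_iso_range : ∃ (K : Type) (_ : Field K) (_ : Fintype K), Fintype.card K = 5 ∧
    Nonempty (Cfsg.Agent.Ly.Setup.psi.range ≃* Cfsg.Lie.chevG2.group K) := by
  obtain ⟨K, hK1, hK2, hK3, ⟨e⟩⟩ := S1710.result
  refine ⟨K, hK1, hK2, hK3, ⟨(MulEquiv.subgroupCongr ?_).trans e⟩⟩
  rw [Cfsg.Agent.Ly.Setup.range_psi]
  exact Cfsg.Agent.Ly.IndexEq.HH_eq

/-- an element of order `31` with centralizer in `H` -/
theorem centralizer_le {x : Spor.Ly} (hx : x ∈ Cfsg.Agent.Ly.Setup.psi.range) (ho : orderOf x = 31) :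
    Subgroup.centralizer ({x} : Set Spor.Ly) ≤ Cfsg.Agent.Ly.Setup.psi.range := by
  intro g hg
  obtain ⟨i, h1, hh1, h2, hh2, hgi⟩ := Cfsg.Agent.Ly.Setup.cover g
  have hgx : g * x * g⁻¹ = x := by
    rw [mul_inv_eq_iff_eq_mul]
    exact Subgroup.mem_centralizer_singleton_iff.1 hg
  by_cases hi : i = 0
  · subst hi
    rw [hgi, Cfsg.Agent.Ly.Setup.w_zero, mul_one]
    exact Subgroup.mul_mem _ hh1 hh2
  · exfalso
    set u := h2 * x * h2⁻¹ with hu
    have hu1 : u ∈ Cfsg.Agent.Ly.Setup.psi.range :=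
      Subgroup.mul_mem _ (Subgroup.mul_mem _ hh2 hx) (Subgroup.inv_mem _ hh2)
    have hv : Cfsg.Agent.Ly.Setup.w i * u * (Cfsg.Agent.Ly.Setup.w i)⁻¹ = h1⁻¹ * x * h1 := by
      conv_rhs => rw [← hgx, hgi]
      rw [hu]
      group
    have hv1 : Cfsg.Agent.Ly.Setup.w i * u * (Cfsg.Agent.Ly.Setup.w i)⁻¹ ∈ Cfsg.Agent.Ly.Setup.psi.range := by
      rw [hv]
      exact Subgroup.mul_mem _ (Subgroup.mul_mem _ (Subgroup.inv_mem _ hh1) hx) hh1
    have hv2 : Cfsg.Agent.Ly.Setup.w i * u * (Cfsg.Agent.Ly.Setup.w i)⁻¹ ∈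
        Cfsg.Agent.Ly.Setup.psi.range ⊓ Cfsg.Agent.Ly.Setup.psi.range.map
          (MulAut.conj (Cfsg.Agent.Ly.Setup.w i)).toMonoidHom := ⟨hv1, ⟨u, hu1, rfl⟩⟩
    rw [← Cfsg.Agent.Ly.Setup.map_eq i] at hv2
    have h3 := orderOf_dvd_natCard
      (⟨_, hv2⟩ : ((Cfsg.Agent.Ly.Setup.Hs i).map Cfsg.Agent.Ly.Setup.psi))
    rw [Subgroup.orderOf_mk, orderOf_cj, hu, orderOf_cj, ho, (Cfsg.Agent.Ly.Setup.exact' i).2] at h3
    fin_cases i
    · exact hi rfl
    · norm_num [Cfsg.Agent.Ly.Cent.nn] at h3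
    · norm_num [Cfsg.Agent.Ly.Cent.nn] at h3
    · norm_num [Cfsg.Agent.Ly.Cent.nn] at h3
    · norm_num [Cfsg.Agent.Ly.Cent.nn] at h3

theorem exists_31 : ∃ x : Spor.Ly, orderOf x = 31 ∧
    Nat.card (Subgroup.centralizer ({x} : Set Spor.Ly)) = 31 := by
  obtain ⟨K, hK1, hK2, hK3, ⟨e⟩⟩ := exists_iso_range
  obtain ⟨T, hT, hTc, hz⟩ := exact_G2_3 (F := K) hK3 (N := 31) (by norm_num) (by norm_num)
  have hfinT : Finite T := Nat.finite_of_card_ne_zero (by rw [hTc]; norm_num)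
  have := Fact.mk (show Nat.Prime 31 by norm_num)
  obtain ⟨y, hy⟩ := exists_prime_orderOf_dvd_card' (G := T) 31 (by rw [hTc])
  have hy1 : (y : Cfsg.Lie.chevG2.group K) ≠ 1 := by
    intro h
    rw [← Subgroup.orderOf_coe, h, orderOf_one] at hy
    norm_num at hy
  have hyc := hz _ y.2 hy1
  set x : Cfsg.Agent.Ly.Setup.psi.range := e.symm (y : Cfsg.Lie.chevG2.group K) with hx
  have hxo : orderOf (x : Spor.Ly) = 31 := by
    rw [Subgroup.orderOf_coe, hx, MulEquiv.orderOf_eq, Subgroup.orderOf_coe, hy]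
  refine ⟨x, hxo, ?_⟩
  have hle := centralizer_le x.2 hxo
  rw [← hTc]
  refine Nat.card_congr (Equiv.ofBijective
    (fun g : Subgroup.centralizer ({(x : Spor.Ly)} : Set Spor.Ly) => (⟨e ⟨g, hle g.2⟩, ?_⟩ : T)) ⟨?_, ?_⟩)
  · rw [← hyc, Subgroup.mem_centralizer_singleton_iff]
    have h1 := Subgroup.mem_centralizer_singleton_iff.1 g.2
    have h2 : (⟨(g : Spor.Ly), hle g.2⟩ : Cfsg.Agent.Ly.Setup.psi.range) * x = x * ⟨g, hle g.2⟩ := Subtype.ext h1
    have h3 := congrArg e h2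
    have hex : e x = y := by rw [hx, MulEquiv.apply_symm_apply]
    rw [map_mul, map_mul, hex] at h3
    exact h3
  · intro g g' h
    have h1 := congrArg Subtype.val h
    have h2 := e.injective h1
    have h3 : (g : Spor.Ly) = g' := congrArg (Subtype.val : Cfsg.Agent.Ly.Setup.psi.range → Spor.Ly) h2
    exact Subtype.ext h3
  · rintro ⟨t, ht⟩
    have h1 : (e.symm t : Spor.Ly) ∈ Subgroup.centralizer ({(x : Spor.Ly)} : Set Spor.Ly) := by
      rw [Subgroup.mem_centralizer_singleton_iff]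
      have h2 : t ∈ Subgroup.centralizer ({(y : Cfsg.Lie.chevG2.group K)} : Set _) := by rw [hyc]; exact ht
      have h3 := Subgroup.mem_centralizer_singleton_iff.1 h2
      have h4 := congrArg e.symm h3
      rw [map_mul, map_mul] at h4
      exact congrArg Subtype.val h4
    refine ⟨⟨_, h1⟩, ?_⟩
    apply Subtype.ext
    show e ⟨(e.symm t : Spor.Ly), _⟩ = t
    rw [Subtype.coe_eta, MulEquiv.apply_symm_apply]

theorem two_Ly : Two Spor.Ly := by
  have hcard : Nat.card Spor.Ly = 51765179004000000 := Cfsg.Agent.Ly.Setup.card_ly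
  have hfin : Finite Spor.Ly := Cfsg.Agent.Ly.Setup.finite_ly
  obtain ⟨x, hx, hc⟩ := exists_31
  have hr : Nat.Prime 31 := by norm_num
  have hA := cc_of_prime hr hx hc
  have cA : Nat.card (Subgroup.zpowers x) = 31 := by rw [Nat.card_zpowers, hx]
  have he := eIdx_eq_mod hA (by rw [cA]; norm_num) (n := 1669844484000000) (by rw [cA, hcard])
  rw [cA] at he
  norm_num at he
  have hord : ∀ n ∈ ({1, 2, 3, 5, 7, 11, 37, 67} : Finset ℕ), ∃ g : Spor.Ly, orderOf g = n := by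
    have key : ∀ p : ℕ, p.Prime → p ∣ 51765179004000000 → ∃ g : Spor.Ly, orderOf g = p := by
      intro p hp hd
      have := Fact.mk hp
      exact exists_prime_orderOf_dvd_card' p (by rw [hcard]; exact hd)
    intro n hn
    simp only [Finset.mem_insert, Finset.mem_singleton] at hn
    rcases hn with rfl | rfl | rfl | rfl | rfl | rfl | rfl | rfl
    · exact ⟨1, orderOf_one⟩
    all_goals exact key _ (by norm_num) (by norm_num)
  obtain ⟨t, ht, htc, hto⟩ := exists_of_orders (G := Spor.Ly) _ hord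
  have hk := m_add_card_le (m := 5) hA (by rw [cA, he]) t ht (by
    intro g hg b hb hb1 hcj
    have h2 : orderOf g = orderOf b := by
      obtain ⟨c, rfl⟩ := isConj_iff.1 hcj
      exact ((MulAut.conj c).orderOf_eq g).symm
    have h3 : orderOf b ∣ 31 := by
      have := orderOf_dvd_natCard (⟨b, hb⟩ : Subgroup.zpowers x)
      rwa [← Subgroup.orderOf_coe, cA] at this
    rcases (Nat.dvd_prime hr).1 h3 with h4 | h4
    · exact hb1 (orderOf_eq_one_iff.1 h4)
    · have h5 := hto g hg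
      rw [h2, h4] at h5
      revert h5
      decide)
  rw [htc] at hk
  exact two_of_ti hA he (m := 5) (by norm_num) (by rw [cA]) hk (by decide)

/-- **the Lyons group** -/
theorem ly {S : Type} [Group S] (h : Cfsg.Spor.IsoLy S) : RowT S := by
  have hfin : Finite Spor.Ly := Cfsg.Agent.Ly.Setup.finite_ly
  obtain ⟨e⟩ := h
  exact rowT_of e (H419.Row.inner_of_out S2076.result) two_Ly

end Cfsg.Agent.H859.Two
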