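import Cfsg.Agent.H859.Two.Deg
import Cfsg.Agent.H859.Five.M

/-!
# The Monster: two irreducible characters with three zeros each (S4897)
-/

set_option autoImplicit false

namespace Cfsg.Agent.H859.Two

open Cfsg Cfsg.Agent.H504.TwoZ Cfsg.Agent.H504.Zeros Cfsg.Agent.H713 Cfsg.Agent.H713.Count
open Cfsg.Agent.H713.Spor

theorem two_M : Two Spor.Monster := by
  have hcard := Five.card_M
  have hfin : Finite Spor.Monster := Nat.finite_of_card_ne_zero (by rw [hcard]; norm_num)
  obtain ⟨d, hd, hpd⟩ := exists_deg_of_dz (H713.Spor.M.hasDZ_29 ⟨MulEquiv.refl Spor.Monster⟩)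
  have h29 : (Nat.card Spor.Monster).factorization 29 = 1 :=
    factorization_eq_one (by rw [hcard]; norm_num) (by rw [hcard]; norm_num)
  refine two_of_ZS Five.mem_M hd ?_ ?_ ?_
  · rintro rfl
    rw [h29] at hpd
    have h1 := (Nat.Prime.dvd_iff_one_le_factorization (p := 29) (by norm_num) (by norm_num)).2 hpd.ge
    norm_num at h1
  · have hf : ∀ p : ℕ, p.Prime → p ∣ 196883 → ¬ p * p ∣ 196883 →
        p ∣ 808017424794512875886459904961710757005754368000000000 →
        ¬ p * p ∣ 808017424794512875886459904961710757005754368000000000 →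
        (196883 : ℕ).factorization p = (Nat.card Spor.Monster).factorization p := by
      intro p hp h1 h2 h3 h4
      have := Fact.mk hp
      rw [hcard, factorization_eq_one h1 h2, factorization_eq_one h3 h4]
    refine ZS.of_primes (a := 47) (b := 59) (c := 71) (by norm_num) (by norm_num) (by norm_num) (by norm_num)
      (by norm_num) (by norm_num) (by rw [hcard]; norm_num) (by rw [hcard]; norm_num)
      (by rw [hcard]; norm_num) (hf _ ?_ ?_ ?_ ?_ ?_) (hf _ ?_ ?_ ?_ ?_ ?_) (hf _ ?_ ?_ ?_ ?_ ?_) <;> norm_num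
  · exact ZS.of_prime (p := 29) (by norm_num) h29 (H713.Spor.M.exists_29 ⟨MulEquiv.refl Spor.Monster⟩)
      (by rw [hcard]; norm_num) hpd

/-- **the Monster** -/
theorem m {S : Type} [Group S] (h : Cfsg.Spor.IsoM S) : RowT S := by
  have hcard := Five.card_M
  have hfin : Finite Spor.Monster := Nat.finite_of_card_ne_zero (by rw [hcard]; norm_num)
  obtain ⟨e⟩ := h
  exact rowT_of e (H419.Row.inner_of_out S2085.result) two_M

end Cfsg.Agent.H859.Two
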