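import Cfsg.Agent.H859.Two.Tools

/-!
# Two degrees with three classes of zeros each (S4897)

* `ZS d G` : every irreducible character of degree `d` vanishes on three classes since `d` has the full
  `r`-part of the group order for suitable primes `r`.
* `two_of_ZS`, `rowT_of`.
-/

set_option autoImplicit false

namespace Cfsg.Agent.H859.Two

open Cfsg Cfsg.Agent.H504.TwoZ Cfsg.Agent.H504.Zeros Cfsg.Agent.H713 Cfsg.Agent.H713.Count

universe u

variable {G : Type u} [Group G]

/-- three non-conjugate elements of orders divisible by primes for which `d` is of defect zero -/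
def ZS (d : ℕ) (G : Type u) [Group G] : Prop :=
  ∃ s : Finset G, NonConj s ∧ 3 ≤ s.card ∧
    ∀ g ∈ s, ∃ r, r.Prime ∧ r ∣ orderOf g ∧ d.factorization r = (Nat.card G).factorization r

theorem two_of_ZS [Finite G] {d e : ℕ} (hd : d ∈ charDegrees G) (he : e ∈ charDegrees G) (hne : d ≠ e)
    (h : ZS d G) (h' : ZS e G) : Two G := by
  obtain ⟨χ, hχ⟩ := hd
  obtain ⟨ψ, hψ⟩ := he
  obtain ⟨s, hs, hs3, hsz⟩ := h
  obtain ⟨t, ht, ht3, htz⟩ := h'
  refine two_of_zeros (χ := χ) (ψ := ψ) ?_ s t hs ht ?_ ?_ hs3 ht3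
  · rintro rfl
    exact hne (hχ.symm.trans hψ)
  · intro g hg
    obtain ⟨r, hr, hrg, hrd⟩ := hsz g hg
    have := Fact.mk hr
    exact irr_zero_of_singular (by rw [hχ, hrd]) hrg
  · intro g hg
    obtain ⟨r, hr, hrg, hrd⟩ := htz g hg
    have := Fact.mk hr
    exact irr_zero_of_singular (by rw [hψ, hrd]) hrg

/-- three different orders -/
theorem ZS.of_primes [Finite G] {d a b c : ℕ} (ha : a.Prime) (hb : b.Prime) (hc : c.Prime) (hab : a ≠ b)
    (hac : a ≠ c) (hbc : b ≠ c) (hGa : a ∣ Nat.card G) (hGb : b ∣ Nat.card G) (hGc : c ∣ Nat.card G)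
    (hda : d.factorization a = (Nat.card G).factorization a)
    (hdb : d.factorization b = (Nat.card G).factorization b)
    (hdc : d.factorization c = (Nat.card G).factorization c) : ZS d G := by
  classical
  have := Fact.mk ha
  have := Fact.mk hb
  have := Fact.mk hc
  obtain ⟨x, hx⟩ := exists_prime_orderOf_dvd_card' (G := G) a hGa
  obtain ⟨y, hy⟩ := exists_prime_orderOf_dvd_card' (G := G) b hGb
  obtain ⟨z, hz⟩ := exists_prime_orderOf_dvd_card' (G := G) c hGc
  obtain ⟨h1, h2⟩ := nonConj_triple (nonConj_of_orderOf (x := x) (y := y) (by rw [hx, hy]; exact hab))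
    (nonConj_of_orderOf (x := x) (y := z) (by rw [hx, hz]; exact hac))
    (nonConj_of_orderOf (x := y) (y := z) (by rw [hy, hz]; exact hbc))
  refine ⟨_, h1, h2.ge, ?_⟩
  intro g hg
  simp only [Finset.mem_insert, Finset.mem_singleton] at hg
  rcases hg with rfl | rfl | rfl
  · exact ⟨a, ha, by rw [hx], hda⟩
  · exact ⟨b, hb, by rw [hy], hdb⟩
  · exact ⟨c, hc, by rw [hz], hdc⟩

/-- one prime with three singular classes -/
theorem ZS.of_prime [Finite G] {d p : ℕ} (hp : p.Prime) (hG : (Nat.card G).factorization p = 1)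
    (hy : ∃ y : G, p ∣ orderOf y ∧ orderOf y ≠ p) (h : (Nat.card G / p + 2) % p ≠ 0)
    (hd : d.factorization p = (Nat.card G).factorization p) : ZS d G := by
  classical
  have := Fact.mk hp
  obtain ⟨y, hy1, hy2⟩ := hy
  have hpG : p ∣ Nat.card G := by
    have := Nat.ordProj_dvd (Nat.card G) p
    rwa [hG, pow_one] at this
  obtain ⟨x, hx⟩ := exists_prime_orderOf_dvd_card' (G := G) p hpG
  obtain ⟨s, h1, h2, h3⟩ := three_classes hG hx hy1 hy2 h
  exact ⟨s, h1, h2.ge, fun g hg => ⟨p, hp, h3 g hg, hd⟩⟩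

/-- one prime with two singular classes and a different prime -/
theorem ZS.of_two [Finite G] {d p r : ℕ} (hp : p.Prime) (hr : r.Prime) (hpr : p ≠ r)
    (hG : (Nat.card G).factorization p = 1) (hGr : r ∣ Nat.card G)
    (h : (Nat.card G / p + 1) % p ≠ 0)
    (hd : d.factorization p = (Nat.card G).factorization p)
    (hdr : d.factorization r = (Nat.card G).factorization r) : ZS d G := by
  classical
  have := Fact.mk hp
  have := Fact.mk hr
  have hpG' : p ∣ Nat.card G := by
    have := Nat.ordProj_dvd (Nat.card G) p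
    rwa [hG, pow_one] at this
  obtain ⟨x, hx⟩ := exists_prime_orderOf_dvd_card' (G := G) p hpG'
  obtain ⟨y, z, h1, h2, h3⟩ := two_classes hG hx h
  obtain ⟨w, hw⟩ := exists_prime_orderOf_dvd_card' (G := G) r hGr
  have hne : ∀ y : G, p ∣ orderOf y → ¬ IsConj y w := by
    intro y hy
    refine nonConj_of_orderOf fun h => ?_
    rw [h, hw, Nat.prime_dvd_prime_iff_eq hp hr] at hy
    exact hpr hy
  obtain ⟨h4, h5⟩ := nonConj_triple h1 (hne y h2) (hne z h3)
  refine ⟨_, h4, h5.ge, ?_⟩
  intro g hg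
  simp only [Finset.mem_insert, Finset.mem_singleton] at hg
  rcases hg with rfl | rfl | rfl
  · exact ⟨p, hp, h2, hd⟩
  · exact ⟨p, hp, h3, hd⟩
  · exact ⟨r, hr, by rw [hw], hdr⟩

/-- the degree of a character of defect zero -/
theorem exists_deg_of_dz {p : ℕ} (h : H665.NoPQ.HasDZ p G) :
    ∃ d ∈ charDegrees G, d.factorization p = (Nat.card G).factorization p := by
  obtain ⟨χ, hχ⟩ := h
  exact ⟨_, ⟨χ, rfl⟩, hχ⟩

theorem rowT_of {S K : Type} [Group S] [Group K] [Finite K] (e : S ≃* K)
    (hin : ∀ φ : MulAut K, ∃ s : K, φ = MulAut.conj s) (h : Two K) : RowT S := by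
  have : Finite S := Finite.of_equiv K e.symm.toEquiv
  exact RowT.of_equiv e ⟨Or.inl h, row2_of_inner hin⟩

end Cfsg.Agent.H859.Two
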