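import Cfsg.Agent.H504.TwoRows
import Cfsg.Agent.SmallSimple.SelfCentPrime

/-!
# Singular classes for a prime dividing the group order once (S4897)

* `exists_nonConj` : two non-conjugate nontrivial elements of a group of order at least 3.
* `three_classes`, `two_classes` : non-conjugate `p`-singular elements when `p` divides the group order once.
* `row2_of_inner` : all automorphisms are inner.
-/

set_option autoImplicit false

namespace Cfsg.Agent.H859.Two

open Cfsg Cfsg.Agent.H504.TwoZ Cfsg.Agent.H504.Zeros Cfsg.Agent.H713 Cfsg.Agent.H713.Count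

universe u

section inner

/-- a simple group whose automorphisms are inner -/
theorem row2_of_inner {S : Type u} [Group S]
    (h : ∀ φ : MulAut S, ∃ s : S, φ = MulAut.conj s) : Row2 S := by
  rintro G _ _ N _ ⟨e⟩ hC - hN
  exfalso
  apply hN
  rw [eq_top_iff]
  intro g _
  obtain ⟨s, hs⟩ := h (autS N e g)
  have h1 : ((e.symm s : N) : G)⁻¹ * g ∈ Subgroup.centralizer (N : Set G) := by
    rw [Subgroup.mem_centralizer_iff]
    intro n hn
    have h2 : autS N e g (e ⟨n, hn⟩) = s * e ⟨n, hn⟩ * s⁻¹ := by rw [hs]; rfl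
    rw [autS_apply, MulEquiv.symm_apply_apply] at h2
    have h3 : MulAut.conjNormal g (⟨n, hn⟩ : N) = e.symm s * ⟨n, hn⟩ * (e.symm s)⁻¹ := by
      apply e.injective
      rw [h2, map_mul, map_mul, map_inv, MulEquiv.apply_symm_apply]
    have h4 : g * n * g⁻¹ = ((e.symm s : N) : G) * n * ((e.symm s : N) : G)⁻¹ := by
      have := congrArg (Subtype.val : N → G) h3
      rw [MulAut.conjNormal_apply] at this
      exact this
    calc n * (((e.symm s : N) : G)⁻¹ * g) =
        ((e.symm s : N) : G)⁻¹ * (((e.symm s : N) : G) * n * ((e.symm s : N) : G)⁻¹) * g := by group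
      _ = ((e.symm s : N) : G)⁻¹ * (g * n * g⁻¹) * g := by rw [h4]
      _ = _ := by group
  rw [hC, Subgroup.mem_bot, inv_mul_eq_one] at h1
  rw [← h1]
  exact (e.symm s).2

end inner

/-- two non-conjugate nontrivial elements -/
theorem exists_nonConj {K : Type*} [Group K] [Finite K] (h : 2 < Nat.card K) :
    ∃ k l : K, k ≠ 1 ∧ l ≠ 1 ∧ ¬ IsConj k l := by
  classical
  by_contra hcon
  push Not at hcon
  have hnt : Nontrivial K := Finite.one_lt_card_iff_nontrivial.1 (by omega)
  obtain ⟨k, hk⟩ := exists_ne (1 : K)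
  have h1 := Cfsg.Agent.SmallSimple.SelfCentPrime.card_carrier_mul_card_centralizer k
  have h2 : (ConjClasses.mk k).carrier = {1}ᶜ := by
    ext l
    rw [ConjClasses.mem_carrier_iff_mk_eq, ConjClasses.mk_eq_mk_iff_isConj, Set.mem_compl_singleton_iff]
    constructor
    · rintro h3 rfl
      exact hk (isConj_one_right.1 h3)
    · exact fun h3 => hcon l k h3 hk
  have h3 : Nat.card (ConjClasses.mk k).carrier = Nat.card K - 1 := by
    rw [h2]
    have h4 := Set.ncard_compl ({1} : Set K)
    rw [Set.ncard_singleton] at h4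
    exact h4
  rw [h3] at h1
  have h4 : (Nat.card K - 1) ∣ Nat.card K := Dvd.intro _ h1
  have h5 : (Nat.card K - 1) ∣ Nat.card K - (Nat.card K - 1) := Nat.dvd_sub h4 (dvd_refl _)
  have h6 : Nat.card K - (Nat.card K - 1) = 1 := by omega
  rw [h6, Nat.dvd_one] at h5
  omega

section prime

variable {G : Type*} [Group G] {p : ℕ} [hp : Fact p.Prime]

/-- a complement of `⟨x⟩` in the centralizer of `x` -/
theorem exists_compl [Finite G] {x : G} (hx : orderOf x = p) {c : ℕ}
    (hc : Nat.card (Subgroup.centralizer ({x} : Set G)) = p * c) (hpc : ¬ p ∣ c) :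
    ∃ K : Subgroup G, Nat.card K = c ∧ K ≤ Subgroup.centralizer ({x} : Set G) ∧
      ∀ g ∈ Subgroup.centralizer ({x} : Set G), ∃ z ∈ Subgroup.zpowers x, ∃ k ∈ K, g = z * k := by
  classical
  set C := Subgroup.centralizer ({x} : Set G) with hC
  have hxC : x ∈ C := by rw [hC, Subgroup.mem_centralizer_singleton_iff]
  set N : Subgroup C := Subgroup.zpowers ⟨x, hxC⟩ with hN
  have hNle : N ≤ Subgroup.center C := by
    rw [hN, Subgroup.zpowers_le, Subgroup.mem_center_iff]
    intro g
    apply Subtype.ext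
    exact Subgroup.mem_centralizer_singleton_iff.1 g.2
  have hNn : N.Normal := by
    constructor
    intro n hn g
    have h1 := Subgroup.mem_center_iff.1 (hNle hn) g
    rw [h1, mul_inv_cancel_right]
    exact hn
  have hNc : Nat.card N = p := by
    rw [hN, Nat.card_zpowers, Subgroup.orderOf_mk, hx]
  have hidx : N.index = c := by
    have h1 := N.card_mul_index
    rw [hNc, hc] at h1
    exact Nat.eq_of_mul_eq_mul_left hp.out.pos h1
  obtain ⟨K, hK⟩ := Subgroup.exists_right_complement'_of_coprime (N := N) (by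
    rw [hNc, hidx]
    exact (Nat.Prime.coprime_iff_not_dvd hp.out).2 hpc)
  refine ⟨K.map C.subtype, ?_, ?_, ?_⟩
  · rw [Subgroup.card_map_of_injective (Subgroup.subtype_injective C)]
    have h1 := hK.symm.index_eq_card
    rw [← hidx]
    exact h1.symm
  · rintro g hg
    obtain ⟨k, -, rfl⟩ := Subgroup.mem_map.1 hg
    exact k.2
  · intro g hg
    obtain ⟨⟨n, k⟩, hnk, -⟩ := hK.existsUnique ⟨g, hg⟩
    refine ⟨n, ?_, k, ?_, ?_⟩
    · obtain ⟨j, hj⟩ := Subgroup.mem_zpowers_iff.1 n.2
      rw [← hj]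
      exact Subgroup.zpow_mem _ (Subgroup.mem_zpowers x) j
    · exact Subgroup.mem_map_of_mem C.subtype k.2
    · have := congrArg (Subtype.val : C → G) hnk
      exact this.symm

/-- fusion of `x * k` is controlled by the centralizer of `x` -/
theorem isConj_of_isConj_mul [Finite G] {x : G} (hx : orderOf x = p) {K : Subgroup G}
    (hKC : K ≤ Subgroup.centralizer ({x} : Set G)) (hpK : ¬ p ∣ Nat.card K)
    (hdec : ∀ g ∈ Subgroup.centralizer ({x} : Set G), ∃ z ∈ Subgroup.zpowers x, ∃ k ∈ K, g = z * k)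
    (k l : K) (h : IsConj (x * (k : G)) (x * (l : G))) : IsConj k l := by
  classical
  obtain ⟨g, hg⟩ := isConj_iff.1 h
  set c := Nat.card K with hcdef
  have hcop : Nat.Coprime p c := (Nat.Prime.coprime_iff_not_dvd hp.out).2 hpK
  obtain ⟨m, hm1, hm2⟩ := Nat.chineseRemainder hcop 1 0
  have hcomm : ∀ k : K, Commute x (k : G) := fun k =>
    (Subgroup.mem_centralizer_singleton_iff.1 (hKC k.2)).symm
  have hpow : ∀ k : K, (x * (k : G)) ^ m = x := by
    intro k
    rw [(hcomm k).mul_pow]
    have h1 : x ^ m = x := by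
      have h2 : x ^ m = x ^ 1 := by
        rw [pow_eq_pow_iff_modEq, hx]
        exact hm1
      rw [h2, pow_one]
    have h2 : (k : G) ^ m = 1 := by
      have h3 : c ∣ m := (Nat.modEq_zero_iff_dvd).1 hm2
      have h4 : orderOf k ∣ m := (orderOf_dvd_natCard k).trans h3
      have h5 := orderOf_dvd_iff_pow_eq_one.1 h4
      have := congrArg (Subtype.val : K → G) h5
      exact this
    rw [h1, h2, mul_one]
  have hgx : g * x * g⁻¹ = x := by
    have h1 := congrArg (· ^ m) hg
    simp only [conj_pow, hpow] at h1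
    exact h1
  have hgC : g ∈ Subgroup.centralizer ({x} : Set G) := by
    rw [Subgroup.mem_centralizer_singleton_iff]
    exact mul_inv_eq_iff_eq_mul.1 hgx
  obtain ⟨z, hz, y, hy, rfl⟩ := hdec g hgC
  have h1 : (z * y) * (k : G) * (z * y)⁻¹ = l := by
    have h2 : (z * y) * (x * (k : G)) * (z * y)⁻¹ =
        ((z * y) * x * (z * y)⁻¹) * ((z * y) * (k : G) * (z * y)⁻¹) := by group
    rw [h2, hgx] at hg
    exact mul_left_cancel hg
  have hzC : ∀ w : K, z * (w : G) * z⁻¹ = w := by
    intro w
    obtain ⟨j, rfl⟩ := Subgroup.mem_zpowers_iff.1 hz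
    have h2 : Commute (x ^ j) (w : G) := (hcomm w).zpow_left j
    rw [h2.eq, mul_inv_cancel_right]
  rw [isConj_iff]
  refine ⟨⟨y, hy⟩, ?_⟩
  apply Subtype.ext
  show y * (k : G) * y⁻¹ = l
  have h3 : z * (((⟨y, hy⟩ * k * ⟨y, hy⟩⁻¹ : K) : G)) * z⁻¹ = l := by
    rw [← h1]
    simp only [Subgroup.coe_mul, Subgroup.coe_inv]
    group
  rw [hzC] at h3
  exact h3

theorem orderOf_mul_compl [Finite G] {x : G} (hx : orderOf x = p) {K : Subgroup G}
    (hKC : K ≤ Subgroup.centralizer ({x} : Set G)) (hpK : ¬ p ∣ Nat.card K) (k : K) :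
    orderOf (x * (k : G)) = p * orderOf k := by
  have hcomm : Commute x (k : G) := (Subgroup.mem_centralizer_singleton_iff.1 (hKC k.2)).symm
  rw [hcomm.orderOf_mul_eq_mul_orderOf_of_coprime, hx, Subgroup.orderOf_coe]
  rw [hx, Subgroup.orderOf_coe]
  refine (Nat.Prime.coprime_iff_not_dvd hp.out).2 fun h => hpK (h.trans (orderOf_dvd_natCard k))

/-- a non-conjugate power -/
theorem exists_pow_not_isConj {x : G} (ht : 2 ≤ (sing p x).card) :
    ∃ i : ZMod p, i ≠ 0 ∧ ¬ IsConj x (x ^ i.val) := by
  classical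
  have h1 : ∃ c ∈ sing p x, c ≠ ConjClasses.mk x := by
    by_contra hcon
    push Not at hcon
    have h2 : sing p x ⊆ {ConjClasses.mk x} := fun c hc => Finset.mem_singleton.2 (hcon c hc)
    have h3 := Finset.card_le_card h2
    rw [Finset.card_singleton] at h3
    omega
  obtain ⟨c, hc, hne⟩ := h1
  obtain ⟨i, hi, rfl⟩ := mem_sing.1 hc
  refine ⟨i, hi, fun h => hne ?_⟩
  rw [ConjClasses.mk_eq_mk_iff_isConj]
  exact h.symm

theorem orderOf_pow_val {x : G} (hx : orderOf x = p) {i : ZMod p} (hi : i ≠ 0) :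
    orderOf (x ^ i.val) = p := by
  rw [orderOf_pow' _ (by rwa [Ne, ZMod.val_eq_zero]), hx]
  have h1 : Nat.gcd p i.val = 1 := by
    rw [← Nat.coprime_iff_gcd_eq_one, Nat.Prime.coprime_iff_not_dvd hp.out]
    intro h
    exact hi ((ZMod.val_eq_zero i).1 (Nat.eq_zero_of_dvd_of_lt h (ZMod.val_lt i)))
  rw [h1, Nat.div_one]

omit hp in
theorem orderOf_cj (g x : G) : orderOf (g * x * g⁻¹) = orderOf x :=
  (MulAut.conj g).orderOf_eq x

omit hp in
theorem nonConj_of_orderOf {x y : G} (h : orderOf x ≠ orderOf y) : ¬ IsConj x y := by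
  intro hc
  obtain ⟨c, hc⟩ := isConj_iff.1 hc
  apply h
  rw [← hc, orderOf_cj]

omit hp in
theorem nonConj_pair [DecidableEq G] {x y : G} (h : ¬ IsConj x y) :
    NonConj ({x, y} : Finset G) ∧ ({x, y} : Finset G).card = 2 := by
  constructor
  · intro a ha b hb hab
    simp only [Finset.mem_insert, Finset.mem_singleton] at ha hb
    rcases ha with rfl | rfl <;> rcases hb with rfl | rfl
    · rfl
    · exact absurd hab h
    · exact absurd hab.symm h
    · rfl
  · rw [Finset.card_pair]
    rintro rfl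
    exact h (IsConj.refl x)

omit hp in
theorem nonConj_triple [DecidableEq G] {x y z : G} (h1 : ¬ IsConj x y) (h2 : ¬ IsConj x z)
    (h3 : ¬ IsConj y z) : NonConj ({x, y, z} : Finset G) ∧ ({x, y, z} : Finset G).card = 3 := by
  constructor
  · intro a ha b hb hab
    simp only [Finset.mem_insert, Finset.mem_singleton] at ha hb
    rcases ha with rfl | rfl | rfl <;> rcases hb with rfl | rfl | rfl
    · rfl
    · exact absurd hab h1
    · exact absurd hab h2
    · exact absurd hab.symm h1
    · rfl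
    · exact absurd hab h3
    · exact absurd hab.symm h2
    · exact absurd hab.symm h3
    · rfl
  · rw [Finset.card_eq_three]
    refine ⟨x, y, z, ?_, ?_, ?_, rfl⟩
    · rintro rfl; exact h1 (IsConj.refl x)
    · rintro rfl; exact h2 (IsConj.refl x)
    · rintro rfl; exact h3 (IsConj.refl y)

theorem not_dvd_of_card [Finite G] (hG : (Nat.card G).factorization p = 1) {x : G} {c : ℕ}
    (hc : Nat.card (Subgroup.centralizer ({x} : Set G)) = p * c) : ¬ p ∣ c := by
  rintro ⟨d, rfl⟩
  have h1 : p ^ 2 ∣ Nat.card G := by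
    refine Dvd.dvd.trans ?_ (Subgroup.card_subgroup_dvd_card (Subgroup.centralizer ({x} : Set G)))
    rw [hc]
    exact ⟨d, by ring⟩
  have h2 := (hp.out.pow_dvd_iff_le_factorization (Nat.card_pos (α := G)).ne').1 h1
  omega

omit hp in
theorem exists_card_centralizer [Finite G] {x : G} (hx : orderOf x = p) :
    ∃ c, Nat.card (Subgroup.centralizer ({x} : Set G)) = p * c := by
  have hxC : x ∈ Subgroup.centralizer ({x} : Set G) := by
    rw [Subgroup.mem_centralizer_singleton_iff]
  have h1 : orderOf (⟨x, hxC⟩ : Subgroup.centralizer ({x} : Set G)) = p := by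
    rw [Subgroup.orderOf_mk, hx]
  have h2 := orderOf_dvd_natCard (⟨x, hxC⟩ : Subgroup.centralizer ({x} : Set G))
  rw [h1] at h2
  exact h2

/-- some `p`-singular element of order different from `p` forces a larger centralizer -/
theorem two_le_of_singular [Finite G] (hG : (Nat.card G).factorization p = 1) {x : G}
    (hx : orderOf x = p) {c : ℕ} (hc : Nat.card (Subgroup.centralizer ({x} : Set G)) = p * c)
    {y : G} (hy : p ∣ orderOf y) (hy' : orderOf y ≠ p) : 2 ≤ c := by
  classical
  by_contra hcon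
  have hc1 : c = 1 := by
    have : 0 < p * c := hc ▸ Nat.card_pos
    have := Nat.pos_of_mul_pos_left this
    omega
  rw [hc1, mul_one] at hc
  obtain ⟨m, hm⟩ := hy
  have hy0 : 0 < orderOf y := orderOf_pos y
  have hm0 : 0 < m := by
    rcases Nat.eq_zero_or_pos m with h | h
    · rw [h, mul_zero] at hm; omega
    · exact h
  set w := y ^ m with hw
  have hwo : orderOf w = p := by
    rw [hw, orderOf_pow' _ hm0.ne', hm, Nat.gcd_eq_right (Dvd.intro_left p rfl),
      Nat.mul_div_cancel _ hm0]
  -- `⟨w⟩` is conjugate to `⟨x⟩`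
  have hcx : Nat.card (Subgroup.zpowers x) = p ^ (Nat.card G).factorization p := by
    rw [Nat.card_zpowers, hx, hG, pow_one]
  have hcw : Nat.card (Subgroup.zpowers w) = p ^ (Nat.card G).factorization p := by
    rw [Nat.card_zpowers, hwo, hG, pow_one]
  let P : Sylow p G := Sylow.ofCard (Subgroup.zpowers x) hcx
  let Q : Sylow p G := Sylow.ofCard (Subgroup.zpowers w) hcw
  obtain ⟨g, hg⟩ := MulAction.exists_smul_eq G Q P
  have h1 : g * w * g⁻¹ ∈ Subgroup.zpowers x := by
    have h2 : g * w * g⁻¹ ∈ (g • Q : Sylow p G) := by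
      rw [Sylow.smul_def]
      exact ⟨w, Subgroup.mem_zpowers w, rfl⟩
    rw [hg] at h2
    exact h2
  have hwne : g * w * g⁻¹ ≠ 1 := by
    intro h
    rw [conj_eq_one_iff] at h
    rw [h, orderOf_one] at hwo
    exact hp.out.one_lt.ne hwo
  -- `x` is a power of `g * w * g⁻¹`
  have h3 : x ∈ Subgroup.zpowers (g * w * g⁻¹) := by
    have h4 : Subgroup.zpowers (g * w * g⁻¹) = Subgroup.zpowers x := by
      refine Subgroup.eq_of_le_of_card_ge (Subgroup.zpowers_le.2 h1) ?_
      rw [Nat.card_zpowers, Nat.card_zpowers, hx, orderOf_cj, hwo]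
    rw [h4]
    exact Subgroup.mem_zpowers x
  have h5 : g * y * g⁻¹ ∈ Subgroup.centralizer ({x} : Set G) := by
    rw [Subgroup.mem_centralizer_singleton_iff]
    obtain ⟨j, hj⟩ := Subgroup.mem_zpowers_iff.1 h3
    have h6 : Commute (g * y * g⁻¹) (g * w * g⁻¹) := by
      rw [hw, ← conj_pow]
      exact (Commute.refl _).pow_right m
    have h7 := h6.zpow_right j
    rw [hj] at h7
    exact h7
  have h6 : orderOf (⟨g * y * g⁻¹, h5⟩ : Subgroup.centralizer ({x} : Set G)) ∣ p := by
    rw [← hc]
    exact orderOf_dvd_natCard _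
  rw [Subgroup.orderOf_mk, orderOf_cj, hm] at h6
  have h7 := Nat.le_of_dvd hp.out.pos h6
  have h8 : m = 1 := by
    by_contra h
    have : p * 2 ≤ p * m := Nat.mul_le_mul_left p (by omega)
    have := hp.out.pos
    omega
  rw [h8, mul_one] at hm
  exact hy' hm

/-- **Three singular classes.** -/
theorem three_classes [Finite G] [DecidableEq G] (hG : (Nat.card G).factorization p = 1) {x y : G}
    (hx : orderOf x = p) (hy : p ∣ orderOf y) (hy' : orderOf y ≠ p)
    (h : (Nat.card G / p + 2) % p ≠ 0) :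
    ∃ s : Finset G, NonConj s ∧ s.card = 3 ∧ ∀ g ∈ s, p ∣ orderOf g := by
  obtain ⟨c, hc⟩ := exists_card_centralizer hx
  have hpc := not_dvd_of_card hG hc
  have hxp : x ^ p = 1 := by rw [← hx]; exact pow_orderOf_eq_one x
  have het := card_fus_mul_card_sing hxp
  by_cases ht : 2 ≤ (sing p x).card
  · obtain ⟨i, hi, hni⟩ := exists_pow_not_isConj ht
    obtain ⟨h1, h2⟩ := nonConj_triple hni
      (nonConj_of_orderOf (x := x) (y := y) (by rw [hx]; exact hy'.symm))
      (nonConj_of_orderOf (x := x ^ i.val) (y := y) (by rw [orderOf_pow_val hx hi]; exact hy'.symm))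
    refine ⟨_, h1, h2, ?_⟩
    intro g hg
    simp only [Finset.mem_insert, Finset.mem_singleton] at hg
    rcases hg with rfl | rfl | rfl
    · rw [hx]
    · rw [orderOf_pow_val hx hi]
    · exact hy
  · have hp2 := hp.out.two_le
    have ht1 : (sing p x).card = 1 := by
      have : (sing p x).card ≠ 0 := by
        intro h0
        rw [h0] at het
        omega
      omega
    rw [ht1, mul_one] at het
    have h1 := card_fus_mul hG hx hc
    rw [het] at h1
    have hc2 := two_le_of_singular hG hx hc hy hy'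
    have hc3 : 2 < c := by
      rcases Nat.lt_or_ge 2 c with h2 | h2
      · exact h2
      · exfalso
        have h3 : c = 2 := by omega
        rw [h3] at h1
        apply h
        have h4 : ((p - 1) * 2 + 2) % p = (Nat.card G / p + 2) % p := h1.add_right 2
        have h5 : (p - 1) * 2 + 2 = p * 2 := by
          obtain ⟨q, hq⟩ : ∃ q, p = q + 1 := ⟨p - 1, by omega⟩
          rw [hq, Nat.add_sub_cancel]
          ring
        rw [← h4, h5, Nat.mul_mod_right]
    obtain ⟨K, hK1, hK2, hK3⟩ := exists_compl hx hc hpc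
    obtain ⟨k, l, hk, hl, hkl⟩ := exists_nonConj (K := K) (by rw [hK1]; exact hc3)
    have hpK : ¬ p ∣ Nat.card K := by rw [hK1]; exact hpc
    have ho : ∀ w : K, w ≠ 1 → orderOf (x * (w : G)) ≠ p := by
      intro w hw h2
      rw [orderOf_mul_compl hx hK2 hpK] at h2
      have h3 : orderOf w = 1 := Nat.eq_of_mul_eq_mul_left hp.out.pos (h2.trans (mul_one p).symm)
      exact hw (orderOf_eq_one_iff.1 h3)
    obtain ⟨h2, h3⟩ := nonConj_triple
      (nonConj_of_orderOf (x := x) (y := x * (k : G)) (by rw [hx]; exact (ho k hk).symm))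
      (nonConj_of_orderOf (x := x) (y := x * (l : G)) (by rw [hx]; exact (ho l hl).symm))
      (fun h4 => hkl (isConj_of_isConj_mul hx hK2 hpK hK3 k l h4))
    refine ⟨_, h2, h3, ?_⟩
    intro g hg
    simp only [Finset.mem_insert, Finset.mem_singleton] at hg
    rcases hg with rfl | rfl | rfl
    · rw [hx]
    · rw [orderOf_mul_compl hx hK2 hpK]; exact Dvd.intro _ rfl
    · rw [orderOf_mul_compl hx hK2 hpK]; exact Dvd.intro _ rfl

/-- **Two singular classes.** -/
theorem two_classes [Finite G] (hG : (Nat.card G).factorization p = 1) {x : G}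
    (hx : orderOf x = p) (h : (Nat.card G / p + 1) % p ≠ 0) :
    ∃ y z : G, ¬ IsConj y z ∧ p ∣ orderOf y ∧ p ∣ orderOf z := by
  obtain ⟨c, hc⟩ := exists_card_centralizer hx
  have hpc := not_dvd_of_card hG hc
  have hxp : x ^ p = 1 := by rw [← hx]; exact pow_orderOf_eq_one x
  have het := card_fus_mul_card_sing hxp
  by_cases ht : 2 ≤ (sing p x).card
  · obtain ⟨i, hi, hni⟩ := exists_pow_not_isConj ht
    exact ⟨x, x ^ i.val, hni, by rw [hx], by rw [orderOf_pow_val hx hi]⟩
  · have hp2 := hp.out.two_le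
    have ht1 : (sing p x).card = 1 := by
      have : (sing p x).card ≠ 0 := by
        intro h0
        rw [h0] at het
        omega
      omega
    rw [ht1, mul_one] at het
    have h1 := card_fus_mul hG hx hc
    rw [het] at h1
    have hc2 : 1 < c := by
      have hc0 : c ≠ 0 := fun h0 => hpc (h0 ▸ dvd_zero p)
      rcases Nat.lt_or_ge 1 c with h2 | h2
      · exact h2
      · exfalso
        have h3 : c = 1 := by omega
        rw [h3] at h1
        apply h
        have h4 : ((p - 1) * 1 + 1) % p = (Nat.card G / p + 1) % p := h1.add_right 1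
        have h5 : (p - 1) * 1 + 1 = p := by omega
        rw [← h4, h5, Nat.mod_self]
    obtain ⟨K, hK1, hK2, hK3⟩ := exists_compl hx hc hpc
    have hpK : ¬ p ∣ Nat.card K := by rw [hK1]; exact hpc
    have hnt : Nontrivial K := Finite.one_lt_card_iff_nontrivial.1 (by rw [hK1]; exact hc2)
    obtain ⟨k, hk⟩ := exists_ne (1 : K)
    refine ⟨x, x * (k : G), nonConj_of_orderOf ?_, by rw [hx], ?_⟩
    · rw [orderOf_mul_compl hx hK2 hpK, hx]
      intro h2
      have h3 : orderOf k = 1 := Nat.eq_of_mul_eq_mul_left hp.out.pos (h2.symm.trans (mul_one p).symm)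
      exact hk (orderOf_eq_one_iff.1 h3)
    · rw [orderOf_mul_compl hx hK2 hpK]; exact Dvd.intro _ rfl

end prime

end Cfsg.Agent.H859.Two
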